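import Groth.Agent.CAlgGRing.IdealCpl
import Groth.Agent.SymGr.RegLoc
import Groth.Agent.S4704
import Groth.Agent.S4736

/-!
# G-rings are detected at maximal ideals
-/

universe u

open TensorProduct IsLocalRing

set_option linter.style.haveILetI false

namespace Groth.Agent.CAlgGRing

/-- A regular map followed by a localization is regular. -/
theorem isRegularHom_localization_target (A B B' : Type u) [CommRing A] [CommRing B] [CommRing B'] [Algebra A B]
    [Algebra B B'] [Algebra A B'] [IsScalarTower A B B'] [IsNoetherianRing B] (M : Submonoid B)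
    [IsLocalization M B'] (h : CAlg.IsRegularHom A B) : CAlg.IsRegularHom A B' := by
  haveI := h.1
  haveI : Module.Flat B B' := IsLocalization.flat B' M
  haveI : IsNoetherianRing B' := IsLocalization.isNoetherianRing M B' inferInstance
  refine ⟨Module.Flat.trans A B B', fun p _ => ⟨RegLocus.isNoetherianRing_fiber A B' p, ?_⟩⟩
  letI : Algebra (p.Fiber B) (p.Fiber B') :=
    (Algebra.TensorProduct.map (AlgHom.id p.ResidueField p.ResidueField) (IsScalarTower.toAlgHom A B B')).toRingHom.toAlgebra
  haveI : IsScalarTower p.ResidueField (p.Fiber B) (p.Fiber B') := IsScalarTower.of_algebraMap_eq (R := p.ResidueField) (S := p.Fiber B) (A := p.Fiber B') fun c => by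
    show c ⊗ₜ[A] (1 : B') = c ⊗ₜ[A] (algebraMap B B' 1)
    rw [map_one]
  haveI : IsLocalization (M.map (Algebra.TensorProduct.includeRight (R := A) (A := p.ResidueField) (B := B)))
      (p.Fiber B') := IsLocalization.tensorProduct_tensorProduct_right (R := A) (S := p.ResidueField) M B'
        (RingHom.ext fun a => rfl)
  exact SymGr.isGeometricallyRegular_of_isLocalization
    (M.map (Algebra.TensorProduct.includeRight (R := A) (A := p.ResidueField) (B := B))) (h.2 p).2

/-- A regular map factoring through a localization of the source is regular from the localization. -/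
theorem isRegularHom_localization_source (A A' B : Type u) [CommRing A] [CommRing A'] [CommRing B] [IsNoetherianRing A]
    [IsNoetherianRing B] [Algebra A A'] [Algebra A B] [Algebra A' B] [IsScalarTower A A' B] (S : Submonoid A)
    [IsLocalization S A'] (h : CAlg.IsRegularHom A B) : CAlg.IsRegularHom A' B := by
  haveI : IsLocalization (Algebra.algebraMapSubmonoid B S) B := IsLocalization.self (by
    rintro _ ⟨s, hs, rfl⟩
    show IsUnit (algebraMap A B s)
    rw [IsScalarTower.algebraMap_apply A A' B]
    exact (IsLocalization.map_units A' ⟨s, hs⟩).map _)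
  exact S4736.result A B h S A' B

theorem isGRing_of_maximal (R : Type u) [CommRing R] [IsNoetherianRing R]
    (h : ∀ (m : Ideal R) [m.IsMaximal],
      CAlg.IsRegularHom (Localization.AtPrime m) (EGA4.Cpl (Localization.AtPrime m))) : CAlg.IsGRing R := by
  refine ⟨inferInstance, fun p _ => ?_⟩
  obtain ⟨m, hm, hpm⟩ := Ideal.exists_le_maximal p (Ideal.IsPrime.ne_top inferInstance)
  haveI := hm
  let A := Localization.AtPrime m
  let T := EGA4.Cpl A
  obtain ⟨hTN, hff, -⟩ := RegLocus.cpl_facts A
  haveI := hTN
  haveI := hff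
  have hd : Disjoint (m.primeCompl : Set R) (p : Set R) := Set.disjoint_left.2 fun x hx hxp => hx (hpm hxp)
  let q : Ideal A := p.map (algebraMap R A)
  haveI hq : q.IsPrime := IsLocalization.isPrime_of_isPrime_disjoint m.primeCompl A p ‹_› hd
  have hqp : q.comap (algebraMap R A) = p := IsLocalization.under_map_of_isPrime_disjoint m.primeCompl A ‹_› hd
  obtain ⟨P, hP⟩ := PrimeSpectrum.comap_surjective_of_faithfullyFlat (A := A) (B := T) ⟨q, hq⟩
  have hPq : P.asIdeal.comap (algebraMap A T) = q := congrArg PrimeSpectrum.asIdeal hP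
  let TP := Localization.AtPrime P.asIdeal
  let Rp := Localization.AtPrime p
  haveI : IsNoetherianRing Rp := IsLocalization.isNoetherianRing p.primeCompl _ inferInstance
  haveI : IsNoetherianRing TP := IsLocalization.isNoetherianRing P.asIdeal.primeCompl _ inferInstance
  letI : Algebra A Rp := (IsLocalization.map Rp (RingHom.id R) (show m.primeCompl ≤ p.primeCompl.comap (RingHom.id R) from
    fun x hx hxp => hx (hpm hxp))).toAlgebra
  haveI : IsScalarTower R A Rp := IsScalarTower.of_algebraMap_eq fun r => by
    show _ = IsLocalization.map Rp (RingHom.id R) _ (algebraMap R A r)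
    rw [IsLocalization.map_eq]; rfl
  haveI : IsLocalization.AtPrime Rp q := by
    have := IsLocalization.isLocalization_of_submonoid_le A Rp m.primeCompl p.primeCompl (fun x hx hxp => hx (hpm hxp))
    refine IsLocalization.isLocalization_of_is_exists_mul_mem Rp (p.primeCompl.map (algebraMap R A)) q.primeCompl ?_ ?_
    · rintro _ ⟨x, hx, rfl⟩ hxq
      exact hx (hqp ▸ hxq)
    · rintro ⟨a, ha⟩
      obtain ⟨x, s, rfl⟩ := IsLocalization.exists_mk'_eq m.primeCompl a
      refine ⟨algebraMap R A s, x, fun hx => ha ?_, ?_⟩
      · exact (IsLocalization.mk'_mem_iff).2 (Ideal.mem_map_of_mem _ hx)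
      · rw [mul_comm, IsLocalization.mk'_spec]
  have hloc : ∀ s : q.primeCompl, IsUnit (algebraMap A TP s) := fun s => by
    rw [IsScalarTower.algebraMap_apply A T TP]
    refine IsLocalization.map_units TP (⟨algebraMap A T s, fun hs => s.2 ?_⟩ : P.asIdeal.primeCompl)
    exact (SetLike.ext_iff.1 hPq (s : A)).1 hs
  letI : Algebra Rp TP := (IsLocalization.lift (M := q.primeCompl) (S := Rp) hloc).toAlgebra
  haveI : IsScalarTower A Rp TP := IsScalarTower.of_algebraMap_eq fun a =>
    (IsLocalization.lift_eq (M := q.primeCompl) (S := Rp) hloc a).symm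
  have hRT : CAlg.IsRegularHom Rp TP := isRegularHom_localization_source A Rp TP q.primeCompl
    (isRegularHom_localization_target A T TP P.asIdeal.primeCompl (h m))
  haveI : IsLocalHom (algebraMap Rp TP) := ⟨fun x hx => by
    obtain ⟨a, s, rfl⟩ := IsLocalization.exists_mk'_eq q.primeCompl x
    refine (IsLocalization.AtPrime.isUnit_mk'_iff Rp q a s).2 fun haq => ?_
    have h2 : IsUnit (algebraMap A TP a) := by
      rw [IsScalarTower.algebraMap_apply A Rp TP, ← IsLocalization.mk'_spec Rp a s, map_mul]
      exact hx.mul ((IsLocalization.map_units Rp s).map _)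
    rw [IsScalarTower.algebraMap_apply A T TP, IsLocalization.AtPrime.isUnit_to_map_iff TP P.asIdeal] at h2
    exact h2 ((SetLike.ext_iff.1 hPq a).2 haq)⟩
  exact S4704.result Rp TP hRT ((isGRing_of_complete T).2 P.asIdeal)

theorem isGRing_iff_maximal (R : Type u) [CommRing R] [IsNoetherianRing R] :
    CAlg.IsGRing R ↔ ∀ (m : Ideal R) [m.IsMaximal],
      CAlg.IsRegularHom (Localization.AtPrime m) (EGA4.Cpl (Localization.AtPrime m)) :=
  ⟨fun h m _ => h.2 m, isGRing_of_maximal R⟩

end Groth.Agent.CAlgGRing
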