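import Groth.Agent.RegLocus.IdealCplFlat
import Groth.Agent.RegLocus.CompleteG

/-!
# G-rings: completion along an ideal is a regular map
-/

universe u

open TensorProduct IsLocalRing

set_option linter.style.haveILetI false

namespace Groth.Agent.CAlgGRing

open Groth.Agent.RegLocus (isNoetherianRing_tensor_finite)

/-- `Cpl A_m ⊗ L` is regular, `L` finite over `k(p)`. -/
theorem isRegularRing_cpl_tensor (A : Type u) [CommRing A] [IsNoetherianRing A] (m : Ideal A) [m.IsPrime] (p : Ideal A) [p.IsPrime]
    (hpm : p ≤ m) (L : Type u) [Field L] [Algebra p.ResidueField L] [Module.Finite p.ResidueField L] [Algebra A L]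
    [IsScalarTower A p.ResidueField L] (h : CAlg.IsRegularHom (Localization.AtPrime m) (EGA4.Cpl (Localization.AtPrime m))) :
    IsRegularRing (EGA4.Cpl (Localization.AtPrime m) ⊗[A] L) := by
  let Am := Localization.AtPrime m
  let T := EGA4.Cpl Am
  let q : Ideal Am := p.map (algebraMap A Am)
  have hd : Disjoint (m.primeCompl : Set A) (p : Set A) := Set.disjoint_left.2 fun x hx hxp => hx (hpm hxp)
  haveI : q.IsPrime := IsLocalization.isPrime_of_isPrime_disjoint m.primeCompl Am p ‹_› hd
  have hq : p = q.comap (algebraMap A Am) := (IsLocalization.under_map_of_isPrime_disjoint m.primeCompl Am ‹_› hd).symm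
  have hu : ∀ s : m.primeCompl, IsUnit (algebraMap A L s) := fun s => by
    rw [isUnit_iff_ne_zero, IsScalarTower.algebraMap_apply A p.ResidueField L]
    refine fun h0 => s.2 (hpm ?_)
    rw [map_eq_zero] at h0
    rwa [← Ideal.algebraMap_residueField_eq_zero (I := p)]
  letI : Algebra Am L := (IsLocalization.lift (M := m.primeCompl) (S := Am) hu).toAlgebra
  haveI : IsScalarTower A Am L := IsScalarTower.of_algebraMap_eq fun a =>
    (IsLocalization.lift_eq (M := m.primeCompl) (S := Am) hu a).symm
  have hkerL : ∀ a : A, algebraMap A L a = 0 ↔ a ∈ p := fun a => by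
    rw [IsScalarTower.algebraMap_apply A p.ResidueField L, map_eq_zero, Ideal.algebraMap_residueField_eq_zero]
  have hker : ∀ b : Am, algebraMap Am L b = 0 ↔ b ∈ q := fun b => by
    obtain ⟨a, s, rfl⟩ := IsLocalization.exists_mk'_eq m.primeCompl b
    have e : algebraMap Am L (IsLocalization.mk' Am a s) * algebraMap A L s = algebraMap A L a := by
      rw [IsScalarTower.algebraMap_apply A Am L (s : A), ← map_mul, IsLocalization.mk'_spec, ← IsScalarTower.algebraMap_apply]
    rw [← (hu s).mul_left_eq_zero, e, hkerL]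
    rw [IsLocalization.mk'_mem_iff, hq]
    rfl
  let ψ : q.ResidueField →+* L := Ideal.ResidueField.lift q (algebraMap Am L) (fun b hb => (hker b).2 hb)
    (fun b hb => isUnit_iff_ne_zero.2 fun h0 => hb ((hker b).1 h0))
  letI : Algebra q.ResidueField L := ψ.toAlgebra
  haveI : IsScalarTower Am q.ResidueField L := IsScalarTower.of_algebraMap_eq fun b =>
    (Ideal.ResidueField.lift_algebraMap ..).symm
  let χ : p.ResidueField →+* q.ResidueField := Ideal.ResidueField.map p q (algebraMap A Am) hq
  letI : Algebra p.ResidueField q.ResidueField := χ.toAlgebra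
  haveI : IsScalarTower p.ResidueField q.ResidueField L := IsScalarTower.of_algebraMap_eq' (Ideal.ResidueField.ringHom_ext (RingHom.ext fun a => by
    show algebraMap p.ResidueField L (algebraMap A p.ResidueField a) = algebraMap q.ResidueField L (χ (algebraMap A p.ResidueField a))
    rw [Ideal.ResidueField.map_algebraMap, ← IsScalarTower.algebraMap_apply Am q.ResidueField L,
      ← IsScalarTower.algebraMap_apply A Am L, ← IsScalarTower.algebraMap_apply]))
  haveI hfin : Module.Finite q.ResidueField L := Module.Finite.of_restrictScalars_finite p.ResidueField _ _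
  let e2 : L ⊗[Am] T ≃+* L ⊗[A] T := (IsLocalization.algebraTensorEquiv m.primeCompl Am L T).toRingEquiv
  refine RegLocus.isRegularRing_of_ringEquiv' (R := L ⊗[Am] T) (e2.trans (Algebra.TensorProduct.comm A L T).toRingEquiv) ?_
  exact RegLocus.isRegularRing_of_ringEquiv' (R := L ⊗[q.ResidueField] (q.Fiber T)) (Algebra.TensorProduct.cancelBaseChange Am q.ResidueField q.ResidueField L T).toRingEquiv
    ((h.2 q).2 L hfin)

theorem isRegularHom_idealCpl (A : Type u) [CommRing A] [IsNoetherianRing A]
    (hA : CAlg.IsGRing A) (I : Ideal A) :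
    CAlg.IsRegularHom A (AdicCompletion I A) := by
  haveI : IsNoetherianRing (AdicCompletion I A) := AdicNoeth.isNoetherianRing_adicCompletion _
  refine ⟨inferInstance, fun p _ => ⟨RegLocus.isNoetherianRing_fiber A (AdicCompletion I A) p, fun L _ _ hfin => ?_⟩⟩
  haveI := hfin
  letI : Algebra A L := ((algebraMap p.ResidueField L).comp (algebraMap A p.ResidueField)).toAlgebra
  haveI : IsScalarTower A p.ResidueField L := IsScalarTower.of_algebraMap_eq fun _ => rfl
  let Ah := AdicCompletion I A
  let e1 : L ⊗[p.ResidueField] (p.Fiber Ah) ≃+* Ah ⊗[A] L :=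
    (Algebra.TensorProduct.cancelBaseChange A p.ResidueField p.ResidueField L Ah).toRingEquiv.trans
      (Algebra.TensorProduct.comm A L Ah).toRingEquiv
  haveI : IsNoetherianRing (Ah ⊗[A] L) :=
    haveI := RegLocus.isNoetherianRing_tensor_finite A Ah p L
    isNoetherianRing_of_ringEquiv _ (Algebra.TensorProduct.comm A L Ah).toRingEquiv
  refine RegLocus.isRegularRing_of_ringEquiv' e1.symm ⟨fun Q hQ => ?_⟩
  let P : Ideal Ah := Q.comap (algebraMap Ah (Ah ⊗[A] L))
  haveI : IsAdicComplete I Ah := AdicCompletion.isAdicComplete (IsNoetherian.noetherian I)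
  haveI : IsAdicComplete (I.map (algebraMap A Ah)) Ah := (IsAdicComplete.map_algebraMap_iff I Ah).2 inferInstance
  obtain ⟨n', hn', hPn⟩ := Ideal.exists_le_maximal P (Ideal.IsPrime.ne_top inferInstance)
  haveI := hn'
  have hIn : I.map (algebraMap A Ah) ≤ n' :=
    (IsAdicComplete.le_jacobson_bot _).trans (sInf_le ⟨bot_le, hn'⟩)
  let m := n'.comap (algebraMap A Ah)
  have happrox : ∀ x : Ah, ∃ a : A, x - algebraMap A Ah a ∈ I.map (algebraMap A Ah) := fun x => by
    obtain ⟨a, ha⟩ := Ideal.Quotient.mk_surjective (AdicCompletion.evalOneₐ I x)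
    refine ⟨a, ?_⟩
    rw [← AdicCompletion.ker_evalOneₐ_eq_map I (IsNoetherian.noetherian I), RingHom.mem_ker, map_sub, sub_eq_zero]
    exact ha.symm.trans ((AdicCompletion.evalOneₐ I).commutes a).symm
  have hIm : I ≤ m := Ideal.map_le_iff_le_comap.1 hIn
  haveI hm : m.IsMaximal := by
    let f : A →+* Ah ⧸ n' := (Ideal.Quotient.mk n').comp (algebraMap A Ah)
    have hf : Function.Surjective f := fun y => by
      obtain ⟨x, rfl⟩ := Ideal.Quotient.mk_surjective y
      obtain ⟨a, ha⟩ := happrox x
      exact ⟨a, ((Ideal.Quotient.mk_eq_mk_iff_sub_mem _ _).2 (hIn ha)).symm⟩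
    letI := Ideal.Quotient.field n'
    have := RingHom.ker_isMaximal_of_surjective f hf
    rwa [show m = RingHom.ker f by rw [← RingHom.comap_ker, Ideal.mk_ker]]
  obtain ⟨n, hn, hnm, _, _, hff⟩ := RegLocus.exists_flat_local A I m hIm
  haveI := hff
  have hPn' : P ≤ n := fun x hx => by
    obtain ⟨a, ha⟩ := happrox x
    rw [hnm]
    have ham : a ∈ m := by
      show algebraMap A Ah a ∈ n'
      have := sub_mem (hPn hx) (hIn ha)
      rwa [sub_sub_cancel] at this
    simpa using add_mem (Ideal.map_mono hIm ha) (Ideal.mem_map_of_mem (algebraMap A Ah) ham)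
  have hpm : p ≤ m := fun a ha => hPn (show algebraMap Ah (Ah ⊗[A] L) (algebraMap A Ah a) ∈ Q by
    rw [← IsScalarTower.algebraMap_apply A Ah (Ah ⊗[A] L), ← Algebra.TensorProduct.includeRight.commutes a,
      IsScalarTower.algebraMap_apply A p.ResidueField L, Ideal.algebraMap_residueField_eq_zero.2 ha, map_zero, map_zero]
    exact Q.zero_mem)
  let R := Localization.AtPrime n
  let T := EGA4.Cpl (Localization.AtPrime m)
  haveI : IsNoetherianRing Ah := AdicNoeth.isNoetherianRing_adicCompletion _
  haveI : IsNoetherianRing R := IsLocalization.isNoetherianRing n.primeCompl _ inferInstance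
  haveI : IsNoetherianRing T := AdicNoeth.isNoetherianRing_adicCompletion _
  haveI : IsNoetherianRing (R ⊗[A] L) :=
    haveI := isNoetherianRing_tensor_finite A R p L
    isNoetherianRing_of_ringEquiv _ (Algebra.TensorProduct.comm A L R).toRingEquiv
  let eT : (R ⊗[A] L) ⊗[R] T ≃+* T ⊗[A] L :=
    (Algebra.TensorProduct.comm R (R ⊗[A] L) T).toRingEquiv.trans
      (Algebra.TensorProduct.cancelBaseChange A R R T L).toRingEquiv
  haveI : IsNoetherianRing ((R ⊗[A] L) ⊗[R] T) :=
    haveI := isNoetherianRing_tensor_finite A T p L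
    isNoetherianRing_of_ringEquiv _ ((Algebra.TensorProduct.comm A L T).toRingEquiv.trans eT.symm)
  have hRL : IsRegularRing (R ⊗[A] L) := RegLocus.isRegularRing_descend (R ⊗[A] L) ((R ⊗[A] L) ⊗[R] T)
    (RegLocus.isRegularRing_of_ringEquiv' eT.symm (isRegularRing_cpl_tensor A m p hpm L (hA.2 m)))
  let S := Ah ⊗[A] L
  let S' := R ⊗[Ah] S
  letI : Algebra S S' := Algebra.TensorProduct.rightAlgebra
  let M := Algebra.algebraMapSubmonoid S n.primeCompl
  haveI : IsLocalization M S' := inferInstance
  have hS' : IsRegularRing S' :=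
    RegLocus.isRegularRing_of_ringEquiv' (Algebra.TensorProduct.cancelBaseChange A Ah Ah R L).toRingEquiv.symm hRL
  have hQd : Disjoint (M : Set S) (Q : Set S) := Set.disjoint_left.2 fun s hs hsQ => by
    obtain ⟨x, hx, rfl⟩ := hs
    exact hx (hPn' hsQ)
  exact RegLocus.geomRegular_of_localizations.regular_at_of_localization S S' M hS' Q hQd


theorem isGRing_of_complete (R : Type u) [CommRing R] [IsLocalRing R] [IsNoetherianRing R]
    [IsAdicComplete (IsLocalRing.maximalIdeal R) R] : CAlg.IsGRing R :=
  ⟨inferInstance, fun p _ => RegLocus.isRegularHom_cpl_atPrime R p⟩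

end Groth.Agent.CAlgGRing
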